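import Mathlib
import Groth.Agent.UnivClosed.Generic
import Groth.Agent.S3836

/-!
# Extending a section over an open set through a normal point
-/

set_option linter.style.haveILetI false

universe u

namespace Groth.Agent.SectExt

open CategoryTheory CategoryTheory.Limits AlgebraicGeometry TopologicalSpace IsLocalRing

lemma exists_domain_away {A : Type u} [CommRing A] [IsNoetherianRing A] (p : Ideal A) [p.IsPrime]
    [IsDomain (Localization.AtPrime p)] : ∃ f ∉ p, IsDomain (Localization.Away f) := by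
  classical
  let K := RingHom.ker (algebraMap A (Localization.AtPrime p))
  haveI : K.IsPrime := RingHom.ker_isPrime _
  obtain ⟨s, hs⟩ : K.FG := IsNoetherian.noetherian K
  have hkill : ∀ a : s, ∃ c : p.primeCompl, (c : A) * a.1 = 0 := fun a =>
    (IsLocalization.map_eq_zero_iff p.primeCompl _ a.1).mp
      (show a.1 ∈ K from hs ▸ Ideal.subset_span a.2)
  choose c hc using hkill
  let f : p.primeCompl := ∏ a : s, c a
  have hf : ∀ a ∈ K, (f : A) * a = 0 := by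
    intro a ha
    rw [← hs] at ha
    change a ∈ Submodule.span A _ at ha
    induction ha using Submodule.span_induction with
    | mem a ha =>
      have : (f : A) = (∏ b ∈ Finset.univ.erase ⟨a, ha⟩, c b : p.primeCompl) * c ⟨a, ha⟩ := by
        rw [← Submonoid.coe_mul, Finset.prod_erase_mul _ _ (Finset.mem_univ _)]
      rw [this, mul_assoc, hc ⟨a, ha⟩, mul_zero]
    | zero => exact mul_zero _
    | add a b _ _ ha hb => rw [mul_add, ha, hb, add_zero]
    | smul r a _ ha => rw [smul_eq_mul, mul_left_comm, ha, mul_zero]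
  have hK0 : ∀ a ∈ K, algebraMap A (Localization.Away (f : A)) a = 0 := fun a ha =>
    (IsLocalization.map_eq_zero_iff (Submonoid.powers (f : A)) _ a).mpr
      ⟨⟨f, Submonoid.mem_powers _⟩, hf a ha⟩
  refine ⟨f, f.2, ?_⟩
  haveI : Nontrivial (Localization.Away (f : A)) := by
    refine ⟨⟨0, 1, fun h => ?_⟩⟩
    obtain ⟨⟨-, n, rfl⟩, hn⟩ :=
      (IsLocalization.map_eq_zero_iff (Submonoid.powers (f : A)) (Localization.Away (f : A)) 1).mp
        (by rw [map_one, h])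
    have hmem := pow_mem (S := p.primeCompl) f.2 n
    rw [mul_one] at hn
    exact hmem (by rw [show (f : A) ^ n = 0 from hn]; exact zero_mem p)
  haveI : NoZeroDivisors (Localization.Away (f : A)) := by
    refine ⟨fun {x y} hxy => ?_⟩
    obtain ⟨a, s', rfl⟩ := IsLocalization.exists_mk'_eq (Submonoid.powers (f : A)) x
    obtain ⟨b, t', rfl⟩ := IsLocalization.exists_mk'_eq (Submonoid.powers (f : A)) y
    rw [← IsLocalization.mk'_mul, IsLocalization.mk'_eq_zero_iff] at hxy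
    obtain ⟨⟨-, n, rfl⟩, hn⟩ := hxy
    have hab : a * b ∈ K := (IsLocalization.map_eq_zero_iff p.primeCompl _ _).mpr
      ⟨⟨(f : A) ^ n, pow_mem f.2 n⟩, hn⟩
    refine ((‹K.IsPrime›).mem_or_mem hab).imp (fun h => ?_) (fun h => ?_) <;>
      rw [IsLocalization.mk'_eq_zero_iff] <;> exact ⟨⟨f, Submonoid.mem_powers _⟩, hf _ h⟩
  exact NoZeroDivisors.to_isDomain _

/-- A point of a locally Noetherian scheme whose local ring is a domain has an integral affine
neighbourhood. -/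
lemma exists_isIntegral_nhd {X : Scheme.{u}} [IsLocallyNoetherian X] (x : X)
    [IsDomain (X.presheaf.stalk x)] :
    ∃ W : X.Opens, x ∈ W ∧ IsAffineOpen W ∧ IsIntegral (W : Scheme.{u}) := by
  obtain ⟨U, hU, hxU, -⟩ := exists_isAffineOpen_mem_and_subset (U := (⊤ : X.Opens)) (x := x) trivial
  haveI : IsNoetherianRing Γ(X, U) := IsLocallyNoetherian.component_noetherian (X := X) ⟨U, hU⟩
  let p := hU.primeIdealOf ⟨x, hxU⟩
  letI := TopCat.Presheaf.algebra_section_stalk X.presheaf (⟨x, hxU⟩ : U)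
  haveI := hU.isLocalization_stalk ⟨x, hxU⟩
  haveI : IsDomain (Localization.AtPrime p.asIdeal) :=
    (IsLocalization.algEquiv p.asIdeal.primeCompl (Localization.AtPrime p.asIdeal)
      (X.presheaf.stalk x)).toMulEquiv.isDomain
  obtain ⟨f, hf, hdom⟩ := exists_domain_away p.asIdeal
  let W := X.basicOpen f
  have hW : IsAffineOpen W := hU.basicOpen f
  have hxW : x ∈ W := by
    have h1 : hU.fromSpec p = x := hU.fromSpec_primeIdealOf _
    have h2 : p ∈ hU.fromSpec ⁻¹ᵁ X.basicOpen f := by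
      rw [hU.fromSpec_preimage_basicOpen]
      exact hf
    change hU.fromSpec _ ∈ X.basicOpen f at h2
    rwa [h1] at h2
  haveI := hU.isLocalization_basicOpen f
  haveI : IsDomain Γ(X, W) :=
    (IsLocalization.algEquiv (Submonoid.powers f) Γ(X, W) (Localization.Away f)).toMulEquiv.isDomain
  haveI : Nonempty (W : Scheme.{u}) := ⟨⟨x, hxW⟩⟩
  exact ⟨W, hxW, hW, isIntegral_of_isOpenImmersion hW.isoSpec.hom⟩

/-- Two morphisms on opens agreeing on the intersection glue. -/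
lemma exists_glue {X Y : Scheme.{u}} {U V : X.Opens} (h : (U : Scheme.{u}) ⟶ Y) (v : (V : Scheme.{u}) ⟶ Y)
    (e : X.homOfLE (inf_le_left : U ⊓ V ≤ U) ≫ h = X.homOfLE (inf_le_right : U ⊓ V ≤ V) ≫ v) :
    ∃ g : ((U ⊔ V : X.Opens) : Scheme.{u}) ⟶ Y,
      X.homOfLE (le_sup_left : U ≤ U ⊔ V) ≫ g = h ∧ X.homOfLE (le_sup_right : V ≤ U ⊔ V) ≫ g = v := by
  let F : Bool → X.Opens := fun b => cond b U V
  have hF : ∀ b, F b ≤ U ⊔ V := Bool.rec le_sup_right le_sup_left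
  let W := U ⊔ V
  let 𝒰 : Scheme.OpenCover.{0} (W : Scheme.{u}) :=
    Scheme.openCoverOfIsOpenCover _ (fun b => W.ι ⁻¹ᵁ F b) (by
      rw [IsOpenCover, ← top_le_iff]
      rintro ⟨a, ha⟩ -
      rcases ha with ha | ha
      · exact Opens.mem_iSup.mpr ⟨true, ha⟩
      · exact Opens.mem_iSup.mpr ⟨false, ha⟩)
  let m : ∀ b : Bool, ((W.ι ⁻¹ᵁ F b : (W : Scheme.{u}).Opens) : Scheme.{u}) ⟶ Y := fun b =>
    W.ι.resLE (F b) (W.ι ⁻¹ᵁ F b) le_rfl ≫
      (match b with | true => h | false => v)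
  have hm : ∀ (a b : Bool) {Z : Scheme.{u}} (i : Z ⟶ (W.ι ⁻¹ᵁ F a : (W : Scheme.{u}).Opens))
      (j : Z ⟶ (W.ι ⁻¹ᵁ F b : (W : Scheme.{u}).Opens)),
      i ≫ (W.ι ⁻¹ᵁ F a).ι = j ≫ (W.ι ⁻¹ᵁ F b).ι → i ≫ m a = j ≫ m b := by
    intro a b Z i j hij
    let i' : Z ⟶ (F a : Scheme.{u}) := i ≫ W.ι.resLE (F a) _ le_rfl
    let j' : Z ⟶ (F b : Scheme.{u}) := j ≫ W.ι.resLE (F b) _ le_rfl
    have hij' : i' ≫ (F a).ι = j' ≫ (F b).ι := by
      simp only [i', j', Category.assoc, Scheme.Hom.resLE_comp_ι, reassoc_of% hij]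
    have key : ∀ (i' : Z ⟶ (U : Scheme.{u})) (j' : Z ⟶ (V : Scheme.{u})),
        i' ≫ U.ι = j' ≫ V.ι → i' ≫ h = j' ≫ v := by
      intro i' j' hij'
      have hr : Set.range (i' ≫ U.ι) ⊆ Set.range (U ⊓ V).ι := by
        rintro _ ⟨z, rfl⟩
        rw [Scheme.Opens.range_ι]
        refine ⟨(i' z).2, ?_⟩
        rw [hij']
        exact (j' z).2
      let k := IsOpenImmersion.lift (U ⊓ V).ι (i' ≫ U.ι) hr
      have hk : k ≫ (U ⊓ V).ι = i' ≫ U.ι := IsOpenImmersion.lift_fac _ _ _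
      have h1 : k ≫ X.homOfLE inf_le_left = i' := by
        rw [← cancel_mono U.ι, Category.assoc, Scheme.homOfLE_ι, hk]
      have h2 : k ≫ X.homOfLE inf_le_right = j' := by
        rw [← cancel_mono V.ι, Category.assoc, Scheme.homOfLE_ι, hk, hij']
      rw [← h1, ← h2, Category.assoc, Category.assoc, e]
    simp only [m, ← Category.assoc]
    cases a <;> cases b
    · exact congrArg (· ≫ _) ((cancel_mono (F false).ι).mp hij')
    · exact (key _ _ hij'.symm).symm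
    · exact key _ _ hij'
    · exact congrArg (· ≫ _) ((cancel_mono (F true).ι).mp hij')
  let g := 𝒰.glueMorphisms m (fun a b => hm a b _ _ pullback.condition)
  refine ⟨g, ?_, ?_⟩
  · let k : (U : Scheme.{u}) ⟶ (W.ι ⁻¹ᵁ F true : (W : Scheme.{u}).Opens) :=
      IsOpenImmersion.lift (W.ι ⁻¹ᵁ F true).ι (X.homOfLE le_sup_left) (by
        rintro _ ⟨z, rfl⟩
        rw [Scheme.Opens.range_ι]
        change W.ι (X.homOfLE _ z) ∈ U
        rw [← Scheme.Hom.comp_apply, Scheme.homOfLE_ι]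
        exact z.2)
    have hk : k ≫ 𝒰.f true = X.homOfLE le_sup_left := IsOpenImmersion.lift_fac _ _ _
    have hk' : k ≫ W.ι.resLE U _ le_rfl = 𝟙 _ := by
      rw [← cancel_mono U.ι, Category.assoc, Category.id_comp]
      refine (congrArg (k ≫ ·) (Scheme.Hom.resLE_comp_ι W.ι le_rfl)).trans ?_
      refine (Category.assoc _ _ _).symm.trans ?_
      refine (congrArg (· ≫ W.ι) hk).trans ?_
      exact Scheme.homOfLE_ι _ _
    rw [← hk]
    refine (Category.assoc _ _ _).trans ((congrArg (k ≫ ·) (𝒰.ι_glueMorphisms m _ true)).trans ?_)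
    change k ≫ W.ι.resLE U _ le_rfl ≫ h = h
    rw [reassoc_of% hk']
  · let k : (V : Scheme.{u}) ⟶ (W.ι ⁻¹ᵁ F false : (W : Scheme.{u}).Opens) :=
      IsOpenImmersion.lift (W.ι ⁻¹ᵁ F false).ι (X.homOfLE le_sup_right) (by
        rintro _ ⟨z, rfl⟩
        rw [Scheme.Opens.range_ι]
        change W.ι (X.homOfLE _ z) ∈ V
        rw [← Scheme.Hom.comp_apply, Scheme.homOfLE_ι]
        exact z.2)
    have hk : k ≫ 𝒰.f false = X.homOfLE le_sup_right := IsOpenImmersion.lift_fac _ _ _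
    have hk' : k ≫ W.ι.resLE V _ le_rfl = 𝟙 _ := by
      rw [← cancel_mono V.ι, Category.assoc, Category.id_comp]
      refine (congrArg (k ≫ ·) (Scheme.Hom.resLE_comp_ι W.ι le_rfl)).trans ?_
      refine (Category.assoc _ _ _).symm.trans ?_
      refine (congrArg (· ≫ W.ι) hk).trans ?_
      exact Scheme.homOfLE_ι _ _
    rw [← hk]
    refine (Category.assoc _ _ _).trans ((congrArg (k ≫ ·) (𝒰.ι_glueMorphisms m _ false)).trans ?_)
    change k ≫ W.ι.resLE V _ le_rfl ≫ v = v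
    rw [reassoc_of% hk']

/-- Morphisms on `U ⊔ V` are determined on `U` and `V`. -/
lemma hom_ext_sup {X Y : Scheme.{u}} {U V : X.Opens} (f g : ((U ⊔ V : X.Opens) : Scheme.{u}) ⟶ Y)
    (hU : X.homOfLE (le_sup_left : U ≤ U ⊔ V) ≫ f = X.homOfLE le_sup_left ≫ g)
    (hV : X.homOfLE (le_sup_right : V ≤ U ⊔ V) ≫ f = X.homOfLE le_sup_right ≫ g) : f = g := by
  refine Scheme.hom_ext_of_forall f g fun a => ?_
  rcases a.2 with ha | ha
  · refine ⟨(U ⊔ V).ι ⁻¹ᵁ U, ha, ?_⟩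
    rw [show ((U ⊔ V).ι ⁻¹ᵁ U).ι = (U ⊔ V).ι.resLE U _ le_rfl ≫ X.homOfLE le_sup_left by
      rw [← cancel_mono (U ⊔ V).ι, Category.assoc, Scheme.homOfLE_ι, Scheme.Hom.resLE_comp_ι],
      Category.assoc, Category.assoc, hU]
  · refine ⟨(U ⊔ V).ι ⁻¹ᵁ V, ha, ?_⟩
    rw [show ((U ⊔ V).ι ⁻¹ᵁ V).ι = (U ⊔ V).ι.resLE V _ le_rfl ≫ X.homOfLE le_sup_right by
      rw [← cancel_mono (U ⊔ V).ι, Category.assoc, Scheme.homOfLE_ι, Scheme.Hom.resLE_comp_ι],
      Category.assoc, Category.assoc, hV]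

/-- A discrete valuation ring through a specialisation, with its fraction field mapped to a given
point. -/
lemma exists_dvr_of_specializes {T X : Scheme.{u}} [IsLocallyNoetherian X] (p : T ⟶ X)
    [LocallyOfFiniteType p] (t : T) (x : X) (hsp : p t ⤳ x) (hne : x ≠ p t) :
    ∃ (R : Type u) (_ : CommRing R) (_ : IsDomain R) (_ : IsDiscreteValuationRing R)
      (u : Spec (CommRingCat.of R) ⟶ X) (g : Spec (CommRingCat.of (FractionRing R)) ⟶ T),
      u (closedPoint R) = x ∧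
        g ≫ p = Spec.map (CommRingCat.ofHom (algebraMap R (FractionRing R))) ≫ u ∧
        g (closedPoint (FractionRing R)) = t := by
  obtain ⟨A, u, hA, hu, hu'⟩ := S4450.result p t x hsp hne
  let e := FractionRing.algEquiv A (T.residueField t)
  refine ⟨A, inferInstance, inferInstance, hA, u,
    Spec.map (CommRingCat.ofHom e.symm.toRingHom) ≫ T.fromSpecResidueField t, hu, ?_, ?_⟩
  · rw [Category.assoc, ← hu', ← Spec.map_comp_assoc]
    congr 2
    ext a
    exact e.symm.commutes a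
  · rw [Scheme.Hom.comp_apply]
    exact Scheme.fromSpecResidueField_apply t _

/-- In a Noetherian sober space a point in the closure of a locally closed set is a specialisation
of one of its points. -/
lemma exists_specializes_of_mem_closure {α : Type u} [TopologicalSpace α] [NoetherianSpace α]
    [QuasiSober α] {O F : Set α} (hO : IsOpen O) (hF : IsClosed F) {x : α} (hx : x ∈ closure (O ∩ F)) :
    ∃ b ∈ O ∩ F, b ⤳ x := by
  obtain ⟨S, hS, hScl, hSirr, hSeq⟩ :=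
    NoetherianSpace.exists_finite_set_isClosed_irreducible (isClosed_closure (s := O ∩ F))
  have hsub : closure (O ∩ F) ⊆ ⋃ C ∈ {C ∈ S | (C ∩ O).Nonempty}, C := by
    refine closure_minimal (fun a ha => ?_)
      ((hS.subset fun C hC => hC.1).isClosed_biUnion fun C hC => hScl C hC.1)
    obtain ⟨C, hC, haC⟩ : a ∈ ⋃₀ S := hSeq ▸ subset_closure ha
    exact Set.mem_iUnion₂.mpr ⟨C, ⟨hC, a, haC, ha.1⟩, haC⟩
  obtain ⟨C, ⟨hCS, hCO⟩, hxC⟩ := Set.mem_iUnion₂.mp (hsub hx)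
  obtain ⟨g, hg⟩ := QuasiSober.sober (hSirr C hCS) (hScl C hCS)
  refine ⟨g, ⟨(hg.mem_open_set_iff hO).mpr hCO, ?_⟩, hg.specializes hxC⟩
  have h1 : g ∈ closure (O ∩ F) := hSeq ▸ Set.mem_sUnion.mpr ⟨C, hCS, hg.mem⟩
  exact closure_minimal Set.inter_subset_right hF h1

/-- The extension step, on an integral neighbourhood. -/
lemma exists_ext {X Y : Scheme.{u}} (q : Y ⟶ X) [LocallyOfFiniteType q] (W : X.Opens)
    [IsIntegral (W : Scheme.{u})] (x : X) (hxW : x ∈ W) (hx : IsIntegrallyClosed (X.presheaf.stalk x))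
    (Y₀ : Y.Opens) (hY₀ : Y₀ ≤ q ⁻¹ᵁ W) [IsSeparated (q.resLE W Y₀ hY₀)]
    (U : X.Opens) (hUW : U ≤ W) (h : (U : Scheme.{u}) ⟶ Y₀) (hh : h ≫ Y₀.ι ≫ q = U.ι)
    (w₀ : U) (y₀ : Y₀) (hy₀ : q y₀.1 = x) (hsp : h w₀ ⤳ y₀)
    (hiso : ∃ O : (Y₀ : Scheme.{u}).Opens, y₀ ∈ O ∧
      ∀ y₁ ∈ O, q y₁.1 = x → y₁ ∈ closure (Set.range h) → y₁ = y₀) :
    ∃ (V : X.Opens) (v : (V : Scheme.{u}) ⟶ Y₀), x ∈ V ∧ V ≤ W ∧ v ≫ Y₀.ι ≫ q = V.ι ∧
      X.homOfLE (inf_le_left : U ⊓ V ≤ U) ≫ h = X.homOfLE (inf_le_right : U ⊓ V ≤ V) ≫ v := by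
  let pY := q.resLE W Y₀ hY₀
  have hpY : pY ≫ W.ι = Y₀.ι ≫ q := Scheme.Hom.resLE_comp_ι _ _
  haveI : LocallyOfFiniteType pY := by
    haveI : LocallyOfFiniteType (pY ≫ W.ι) := by rw [hpY]; infer_instance
    exact locallyOfFiniteType_of_comp pY W.ι
  let UW : (W : Scheme.{u}).Opens := W.ι ⁻¹ᵁ U
  let r : (UW : Scheme.{u}) ⟶ U := W.ι.resLE U UW le_rfl
  have hr : r ≫ U.ι = UW.ι ≫ W.ι := Scheme.Hom.resLE_comp_ι _ _
  let hW := r ≫ h
  have hhW : UW.ι ≫ 𝟙 (W : Scheme.{u}) = hW ≫ pY := by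
    rw [Category.comp_id, ← cancel_mono W.ι, Category.assoc, hpY, ← hr, ← hh]
    simp [hW]
  let L : (Y₀ : Scheme.{u}) ⟶ pullback (𝟙 (W : Scheme.{u})) pY :=
    pullback.lift pY (𝟙 _) (by simp)
  have hL1 : L ≫ pullback.fst _ _ = pY := pullback.lift_fst _ _ _
  have hL2 : L ≫ pullback.snd _ _ = 𝟙 _ := pullback.lift_snd _ _ _
  have hL3 : pullback.snd _ _ ≫ L = 𝟙 (pullback (𝟙 (W : Scheme.{u})) pY) := by
    apply pullback.hom_ext
    · rw [Category.assoc, hL1, ← pullback.condition]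
      simp
    · rw [Category.assoc, hL2]
      simp
  have hgraph : pullback.lift UW.ι hW hhW = hW ≫ L := by
    apply pullback.hom_ext
    · rw [pullback.lift_fst, Category.assoc, hL1, ← hhW, Category.comp_id]
    · rw [pullback.lift_snd, Category.assoc, hL2, Category.comp_id]
  let w : (UW : Scheme.{u}) := ⟨⟨w₀.1, hUW w₀.2⟩, w₀.2⟩
  have hw : hW w = h w₀ := by
    change h (r w) = h w₀
    congr 1
    apply U.ι.isOpenEmbedding.injective
    rw [← Scheme.Hom.comp_apply, hr]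
    rfl
  haveI : Nonempty (W : Scheme.{u}) := ⟨⟨x, hxW⟩⟩
  have hdense : Dense (UW : Set (W : Scheme.{u})) :=
    UW.isOpen.dense ⟨w.1, w.2⟩
  have hnormal : IsIntegrallyClosed ((W : Scheme.{u}).presheaf.stalk ⟨x, hxW⟩) := by
    haveI := hx
    exact IsIntegrallyClosed.of_equiv (W.stalkIso ⟨x, hxW⟩).commRingCatIsoToRingEquiv.symm
  have hfst : ∀ y : Y₀, (pY y).1 = q y.1 := fun y => by
    have := congrArg (fun g : (Y₀ : Scheme.{u}) ⟶ X => g y) hpY
    simpa only [Scheme.Hom.comp_apply, Scheme.Opens.ι_apply] using this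
  obtain ⟨O, hyO, hO⟩ := hiso
  have hz1 : pullback.fst (𝟙 (W : Scheme.{u})) pY (L y₀) = ⟨x, hxW⟩ := by
    rw [← Scheme.Hom.comp_apply, hL1]
    exact Subtype.ext ((hfst y₀).trans hy₀)
  have hz2 : L y₀ ∈ closure (Set.range (pullback.lift UW.ι hW hhW)) := by
    refine closure_mono ?_ ((hsp.map L.continuous).mem_closure)
    rw [Set.singleton_subset_iff, hgraph]
    exact ⟨w, by rw [Scheme.Hom.comp_apply, hw]⟩
  haveI : Nonempty ((⊤ : (W : Scheme.{u}).Opens) : Scheme.{u}) := ⟨⟨⟨x, hxW⟩, trivial⟩⟩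
  obtain ⟨V₀, v₀, hxV₀, hv₀, hagree⟩ := S3836.result (𝟙 (W : Scheme.{u})) pY
    (fun y => ⟨⊤, trivial, isIntegral_of_isOpenImmersion (⊤ : (W : Scheme.{u}).Opens).ι⟩)
    UW hdense hW hhW ⟨x, hxW⟩ hnormal (L y₀) hz1 hz2
    ⟨pullback.snd (𝟙 (W : Scheme.{u})) pY ⁻¹ᵁ O, by
      ext a
      simp only [Set.mem_inter_iff, SetLike.mem_coe, Set.mem_preimage, Set.mem_singleton_iff]
      constructor
      · rintro ⟨⟨ha, hac⟩, hax⟩
        have ha' : a = L (pullback.snd (𝟙 (W : Scheme.{u})) pY a) := by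
          rw [← Scheme.Hom.comp_apply, hL3]; rfl
        rw [ha']
        congr 1
        refine hO _ ha ?_ ?_
        · rw [← hfst]
          have : pY (pullback.snd (𝟙 (W : Scheme.{u})) pY a) = pullback.fst (𝟙 (W : Scheme.{u})) pY a := by
            rw [← Scheme.Hom.comp_apply, ← pullback.condition, Category.comp_id]
          rw [this, hax]
        · have h1 : pullback.snd (𝟙 (W : Scheme.{u})) pY a ∈ closure (Set.range hW) := by
            have h2 := image_closure_subset_closure_image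
              (pullback.snd (𝟙 (W : Scheme.{u})) pY).continuous ⟨a, hac, rfl⟩
            refine closure_mono ?_ h2
            rintro _ ⟨_, ⟨b, rfl⟩, rfl⟩
            refine ⟨b, ?_⟩
            rw [← Scheme.Hom.comp_apply, pullback.lift_snd]
          refine closure_mono ?_ h1
          rintro _ ⟨b, rfl⟩
          exact ⟨r b, rfl⟩
      · rintro rfl
        refine ⟨⟨?_, hz2⟩, hz1⟩
        change pullback.snd (𝟙 (W : Scheme.{u})) pY (L y₀) ∈ O
        rw [← Scheme.Hom.comp_apply, hL2]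
        exact hyO⟩
  let V : X.Opens := W.ι ''ᵁ V₀
  let e := W.ι.isoImage V₀
  have he : e.inv ≫ V₀.ι ≫ W.ι = V.ι := by
    simp [e]
    rfl
  have he' : e.hom ≫ V.ι = V₀.ι ≫ W.ι := by rw [← he, Iso.hom_inv_id_assoc]
  refine ⟨V, e.inv ≫ v₀, ⟨⟨x, hxW⟩, hxV₀, rfl⟩, W.ι_image_le V₀, ?_, ?_⟩
  · rw [← he, Category.assoc, ← hpY, reassoc_of% hv₀]
  · let k : ((U ⊓ V : X.Opens) : Scheme.{u}) ⟶ (UW ⊓ V₀ : (W : Scheme.{u}).Opens) :=
      IsOpenImmersion.lift ((UW ⊓ V₀).ι ≫ W.ι) (U ⊓ V).ι (by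
        rintro _ ⟨a, rfl⟩
        obtain ⟨b, hb, hba⟩ := a.2.2
        refine ⟨⟨b, ?_, hb⟩, hba⟩
        change W.ι b ∈ U
        rw [show W.ι b = a.1 from hba]
        exact a.2.1)
    have hk : k ≫ (UW ⊓ V₀).ι ≫ W.ι = (U ⊓ V).ι := IsOpenImmersion.lift_fac _ _ _
    have h1 : k ≫ (W : Scheme.{u}).homOfLE inf_le_left ≫ r = X.homOfLE inf_le_left := by
      rw [← cancel_mono U.ι]
      simp only [Category.assoc, hr, Scheme.homOfLE_ι, Scheme.homOfLE_ι_assoc, hk]
    have h2 : k ≫ (W : Scheme.{u}).homOfLE inf_le_right ≫ e.hom = X.homOfLE inf_le_right := by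
      rw [← cancel_mono V.ι]
      simp only [Category.assoc, he', Scheme.homOfLE_ι, Scheme.homOfLE_ι_assoc, hk]
    rw [← h1, ← h2]
    simp only [Category.assoc, Iso.hom_inv_id_assoc]
    exact congrArg (k ≫ ·) hagree.symm

end Groth.Agent.SectExt
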